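import Mathlib
import Cfsg.Agent.WeilSp.H4_IrrComm
import Cfsg.Agent.WeilSp.H9_ExistsIrr

set_option autoImplicit false
set_option linter.unusedSectionVars false
set_option linter.unusedVariables false

/-!
S2332 (existence half), helper4: a finite group acting 2-transitively on a finite set `X` has an
irreducible complex representation of degree `|X| - 1` (the augmentation submodule of the permutation
module); for `SL_n(F)` on the projective space this is degree `(q^n - q)/(q - 1)`.
-/

namespace Cfsg.Agent.SLDeg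

open Matrix

variable {G : Type*} [Group G] {X : Type*} [Fintype X] [DecidableEq X] [MulAction G X]

/-- the permutation representation as a homomorphism to `GL`. -/
noncomputable def h4_perm (G : Type*) [Group G] (X : Type*) [Fintype X] [DecidableEq X]
    [MulAction G X] : G →* GL X ℂ :=
  ((Matrix.permMatrixHom (n := X) (R := ℂ)).comp (MulAction.toPermHom G X)).toHomUnits

theorem h4_perm_coe (g : G) :
    (h4_perm G X g : Matrix X X ℂ) = ((MulAction.toPerm g : Equiv.Perm X)⁻¹).permMatrix ℂ := rfl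

theorem h4_perm_mulVec (g : G) (f : X → ℂ) (x : X) :
    ((h4_perm G X g : Matrix X X ℂ) *ᵥ f) x = f (g⁻¹ • x) := by
  rw [h4_perm_coe, Matrix.permMatrix_mulVec]
  rfl

/-- entries of a matrix commuting with the permutation representation. -/
theorem h4_comm_entry (T : Matrix X X ℂ)
    (hT : ∀ g : G, (h4_perm G X g : Matrix X X ℂ) * T = T * (h4_perm G X g : Matrix X X ℂ))
    (g : G) (i j : X) : T (g • i) (g • j) = T i j := by
  have h1 := congrArg (fun M : Matrix X X ℂ => (M *ᵥ (Pi.single j (1 : ℂ))) (g • i)) (hT g)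
  simp only [← mulVec_mulVec] at h1
  rw [h4_perm_mulVec, inv_smul_smul, mulVec_single_one] at h1
  have h2 : (h4_perm G X g : Matrix X X ℂ) *ᵥ (Pi.single j (1 : ℂ)) = Pi.single (g • j) 1 := by
    funext x
    rw [h4_perm_mulVec]
    by_cases hx : x = g • j
    · subst hx
      rw [inv_smul_smul, Pi.single_eq_same, Pi.single_eq_same]
    · rw [Pi.single_eq_of_ne hx, Pi.single_eq_of_ne]
      intro h
      apply hx
      rw [← h, smul_inv_smul]
  rw [h2, mulVec_single_one] at h1
  exact h1.symm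

/-- the commutant of a 2-transitive permutation representation is spanned by `1` and the all-ones
matrix. -/
theorem h4_commutant [MulAction.IsPretransitive G X]
    (h2 : ∀ a b c d : X, a ≠ b → c ≠ d → ∃ g : G, g • a = c ∧ g • b = d)
    (T : Matrix X X ℂ)
    (hT : ∀ g : G, (h4_perm G X g : Matrix X X ℂ) * T = T * (h4_perm G X g : Matrix X X ℂ)) :
    ∃ a b : ℂ, T = a • (1 : Matrix X X ℂ) + b • (Matrix.of fun _ _ => (1 : ℂ)) := by
  by_cases hX : ∃ i j : X, i ≠ j
  · obtain ⟨i₀, j₀, hij⟩ := hX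
    refine ⟨T i₀ i₀ - T i₀ j₀, T i₀ j₀, ?_⟩
    ext i j
    simp only [Matrix.add_apply, Matrix.smul_apply, of_apply, smul_eq_mul, mul_one, one_apply]
    by_cases h : i = j
    · subst h
      obtain ⟨g, hg⟩ := MulAction.exists_smul_eq G i₀ i
      rw [if_pos rfl, mul_one, sub_add_cancel, ← hg, h4_comm_entry T hT]
    · obtain ⟨g, hg1, hg2⟩ := h2 i₀ j₀ i j hij h
      rw [if_neg h, mul_zero, zero_add, ← hg1, ← hg2, h4_comm_entry T hT]
  · push Not at hX
    by_cases hne : Nonempty X
    · obtain ⟨i₀⟩ := hne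
      refine ⟨T i₀ i₀, 0, ?_⟩
      ext i j
      rw [hX i i₀, hX j i₀]
      simp
    · refine ⟨0, 0, ?_⟩
      ext i j
      exact absurd ⟨i⟩ hne

/-- the sum functional. -/
def h4_sumL (X : Type*) [Fintype X] : (X → ℂ) →ₗ[ℂ] ℂ where
  toFun f := ∑ x, f x
  map_add' f g := by simp [Finset.sum_add_distrib]
  map_smul' c f := by simp [Finset.mul_sum]

theorem h4_ones_mulVec (f : X → ℂ) :
    (Matrix.of fun _ _ : X => (1 : ℂ)) *ᵥ f = fun _ => ∑ x, f x := by
  funext i
  simp [mulVec, dotProduct]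

theorem h4_finrank_ker [Nonempty X] :
    Module.finrank ℂ (LinearMap.ker (h4_sumL X)) = Fintype.card X - 1 := by
  have hsurj : LinearMap.range (h4_sumL X) = ⊤ := by
    rw [LinearMap.range_eq_top]
    intro c
    obtain ⟨x₀⟩ := ‹Nonempty X›
    refine ⟨Pi.single x₀ c, ?_⟩
    show ∑ x, (Pi.single x₀ c : X → ℂ) x = c
    rw [Finset.sum_pi_single']
    simp
  have h1 := LinearMap.finrank_range_add_finrank_ker (h4_sumL X)
  rw [hsurj, finrank_top, Module.finrank_self, Module.finrank_fintype_fun_eq_card] at h1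
  omega

/-- a 2-transitive finite group has an irreducible representation of degree `|X| - 1`. -/
theorem h4_exists_irr_two_trans [Finite G] [MulAction.IsPretransitive G X]
    (h2 : ∀ a b c d : X, a ≠ b → c ≠ d → ∃ g : G, g • a = c ∧ g • b = d)
    (hX : 2 ≤ Fintype.card X) (k : ℕ) (hk : Fintype.card X - 1 = k) :
    ∃ ρ : Representation ℂ G (Fin k → ℂ), ρ.IsIrreducible := by
  have hne : Nonempty X := by
    rw [← Fintype.card_pos_iff]
    omega
  set E : Submodule ℂ (X → ℂ) := LinearMap.ker (h4_sumL X) with hE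
  have hmem : ∀ f : X → ℂ, f ∈ E ↔ (Matrix.of fun _ _ : X => (1 : ℂ)) *ᵥ f = (0 : ℂ) • f := by
    intro f
    rw [hE, LinearMap.mem_ker, h4_ones_mulVec, zero_smul]
    constructor
    · intro h
      funext x
      exact h
    · intro h
      exact congrFun h (Classical.arbitrary X)
  have hinv : ∀ g : G, ∀ f ∈ E, (h4_perm G X g : Matrix X X ℂ) *ᵥ f ∈ E := by
    intro g f hf
    rw [hE, LinearMap.mem_ker] at hf ⊢
    show ∑ x, ((h4_perm G X g : Matrix X X ℂ) *ᵥ f) x = 0
    simp only [h4_perm_mulVec]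
    rw [← hf]
    exact Equiv.sum_comp (MulAction.toPerm g⁻¹ : Equiv.Perm X) f
  have hirr : ∀ U : Submodule ℂ (X → ℂ), U ≤ E →
      (∀ g : G, ∀ f ∈ U, (h4_perm G X g : Matrix X X ℂ) *ᵥ f ∈ U) → U = ⊥ ∨ U = E := by
    intro U hUE hU
    by_cases hU0 : U = ⊥
    · exact Or.inl hU0
    · refine Or.inr (le_antisymm hUE ?_)
      intro f hf
      exact WeilSp.irr_of_commutant (h4_perm G X) _ (h4_commutant h2) 0 U hU
        (fun u hu => (hmem u).mp (hUE hu)) hU0 f ((hmem f).mp hf)
  refine WeilSp.exists_irr_rep (h4_perm G X) E hinv hirr k ?_ (by omega)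
  rw [hE, h4_finrank_ker, hk]

end Cfsg.Agent.SLDeg
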