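import Mathlib
import Cfsg.Agent.SLDeg.H4_TwoTrans

set_option autoImplicit false
set_option linter.unusedSectionVars false
set_option linter.unusedVariables false

/-!
S2332 (existence half), helper4: `SL_n(F)`, `n ≥ 2`, has an irreducible complex representation of degree
`(q^n - q)/(q - 1)`: the augmentation submodule of the permutation module on the projective space
(Mathlib: the action is 2-pretransitive).
-/

namespace Cfsg.Agent.SLDeg

open scoped LinearAlgebra.Projectivization

variable {F : Type*} [Field F] [Fintype F]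

/-- `(q^n - 1)/(q - 1) - 1 = (q^n - q)/(q - 1)`. -/
theorem h4_arith (q n : ℕ) (hq : 2 ≤ q) (hn : 1 ≤ n) :
    (q ^ n - 1) / (q - 1) - 1 = (q ^ n - q) / (q - 1) := by
  have hdvd : (q - 1) ∣ q ^ n - 1 := Nat.sub_one_dvd_pow_sub_one q n
  obtain ⟨N, hN⟩ := hdvd
  have hq1 : 0 < q - 1 := by omega
  have hqn : q ≤ q ^ n := by
    calc q = q ^ 1 := (pow_one q).symm
      _ ≤ q ^ n := Nat.pow_le_pow_right (by omega) hn
  have hNpos : 1 ≤ N := by
    rcases Nat.eq_zero_or_pos N with h | h
    · rw [h, mul_zero] at hN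
      omega
    · exact h
  rw [hN, Nat.mul_div_cancel_left _ hq1]
  symm
  apply Nat.div_eq_of_eq_mul_right hq1
  have h1 : (q - 1) * (N - 1) = (q - 1) * N - (q - 1) := by
    rw [Nat.mul_sub, mul_one]
  rw [h1, ← hN]
  omega

theorem h4_card_proj (n : ℕ) :
    Nat.card (ℙ F (Fin n → F)) = (Fintype.card F ^ n - 1) / (Fintype.card F - 1) := by
  have h := Projectivization.card_of_finrank F (Fin n → F) (n := n) (by simp)
  rw [h, Nat.card_eq_fintype_card]
  exact Nat.geomSum_eq Fintype.one_lt_card n

/-- the existence half of S2332. -/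
theorem h4_sl_exists [DecidableEq F] (n : ℕ) (hn : 2 ≤ n) :
    ∃ ρ : Representation ℂ (Matrix.SpecialLinearGroup (Fin n) F)
      (Fin ((Fintype.card F ^ n - Fintype.card F) / (Fintype.card F - 1)) → ℂ),
      ρ.IsIrreducible := by
  classical
  have : Fintype (ℙ F (Fin n → F)) := Fintype.ofFinite _
  have hq : 2 ≤ Fintype.card F := Fintype.one_lt_card
  have hcard : Fintype.card (ℙ F (Fin n → F))
      = (Fintype.card F ^ n - 1) / (Fintype.card F - 1) := by
    rw [← Nat.card_eq_fintype_card, h4_card_proj]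
  have h2t : ∀ a b c d : ℙ F (Fin n → F), a ≠ b → c ≠ d →
      ∃ g : Matrix.SpecialLinearGroup (Fin n) F, g • a = c ∧ g • b = d := by
    intro a b c d hab hcd
    exact MulAction.is_two_pretransitive_iff.mp
      (inferInstance : MulAction.IsMultiplyPretransitive
        (Matrix.SpecialLinearGroup (Fin n) F) (ℙ F (Fin n → F)) 2) hab hcd
  have hge : 2 ≤ (Fintype.card F ^ n - 1) / (Fintype.card F - 1) := by
    rw [← Nat.geomSum_eq hq n]
    calc 2 ≤ 1 + Fintype.card F := by omega
      _ = ∑ i ∈ Finset.range 2, Fintype.card F ^ i := by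
        rw [Finset.sum_range_succ, Finset.sum_range_one, pow_zero, pow_one]
      _ ≤ ∑ i ∈ Finset.range n, Fintype.card F ^ i :=
        Finset.sum_le_sum_of_subset (Finset.range_subset_range.mpr hn)
  refine h4_exists_irr_two_trans (G := Matrix.SpecialLinearGroup (Fin n) F)
    (X := ℙ F (Fin n → F)) h2t (by rw [hcard]; exact hge) _ ?_
  rw [hcard]
  exact h4_arith _ n hq (by omega)

end Cfsg.Agent.SLDeg
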